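import Cfsg.Agent.S0851
import Cfsg.Agent.Char.ClassProducts
import Cfsg.Agent.Char.FrobeniusTI
import Cfsg.Agent.Char.TIKernelFunctions
import Cfsg.Agent.Char.TwoClass
import Cfsg.Agent.Char.Inflation

/-!
# An abelian centraliser of an involution has no room for non-involutions

`A` is an abelian TI subgroup equal to the centraliser of each of its nonidentity elements, `z` an
involution of `A` whose class meets `A` in all `e` involutions of `A`, where `e` is the index of `A`
in its normaliser `N`. If `|A| = r (e + 1)` with `r ≥ e + 1`, the exceptional characters contradict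
the class multiplication formula for products of two conjugates of `z`.
-/

set_option autoImplicit false
set_option linter.style.haveILetI false

namespace CfsgLib.CTGroup

open CfsgLib.Char
open scoped ComplexConjugate

universe u

/-- The arithmetic at the end of the argument. -/
theorem arith_false {e r c d n ε k w j : ℤ} (he : 2 ≤ e) (hr : e + 1 ≤ r)
    (hε : ε = 1 ∨ ε = -1) (hj : 1 ≤ j) (hn : n = 1 + r * (e + 1) * j)
    (hmain : (e - 1) * d = n * e * (ε * (e - 1) + 2 * c))
    (hcong : d = ε * e - c * (r * (e + 1) - 1) + k * (r * (e + 1)))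
    (hw : w * e = r * (e + 1) - 1)
    (hbound : w * c ^ 2 - 2 * ε * c + (r * (e + 1) - e) ≤ r * (e + 1))
    (hdeg : d ^ 2 ≤ n * e * (r * (e + 1))) : False := by
  have hdvd : c = -r * ((e - 1) * (c - k) + j * e * (ε * (e - 1) + 2 * c)) := by
    apply mul_right_cancel₀ (show e + 1 ≠ 0 by omega)
    subst hn hcong
    linear_combination (-1 : ℤ) * hmain
  have hr0 : (0 : ℤ) < r := by omega
  by_cases hc : c = 0
  · subst hc
    have hd : d = n * e * ε := by
      apply mul_left_cancel₀ (show e - 1 ≠ 0 by omega)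
      linear_combination hmain
    have hn0 : 0 < n := by
      rw [hn]; positivity
    have h1 : n * e * (n * e) ≤ n * e * (r * (e + 1)) := by
      calc n * e * (n * e) = d ^ 2 := by rcases hε with h | h <;> rw [hd, h] <;> ring
        _ ≤ _ := hdeg
    have h2 : n * e ≤ r * (e + 1) := le_of_mul_le_mul_left h1 (by positivity)
    have h3 : r * (e + 1) ≤ r * (e + 1) * j := le_mul_of_one_le_right (by positivity) hj
    have h4 : n ≤ n * e := le_mul_of_one_le_right hn0.le (by omega)
    omega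
  · have hcr : r ≤ |c| := by
      refine Int.le_of_dvd (abs_pos.2 hc) ((dvd_abs _ _).2 ?_)
      exact ⟨-((e - 1) * (c - k) + j * e * (ε * (e - 1) + 2 * c)), by
        calc c = _ := hdvd
          _ = _ := by ring⟩
    have hwr : r ≤ w := by
      by_contra h
      push Not at h
      have := mul_le_mul_of_nonneg_right (show w ≤ r - 1 by omega) (show (0 : ℤ) ≤ e by omega)
      nlinarith
    have h5 : r * c ^ 2 ≤ w * c ^ 2 := mul_le_mul_of_nonneg_right hwr (sq_nonneg c)
    have h6 : ε * c ≤ |c| := by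
      rcases hε with h | h <;> subst h <;> [skip; skip] <;> have := le_abs_self c <;>
        have := neg_abs_le c <;> omega
    have h7 : |c| * |c| = c ^ 2 := by rw [abs_mul_abs_self, pow_two]
    nlinarith [mul_le_mul hr hcr (by omega) (by omega)]

variable {G : Type u} [Group G] [Fintype G]

/-- The characters of `N` trivial on a normal subgroup have squared degrees summing to its index. -/
theorem sum_sdiff_sq {N : Subgroup G} [Fintype N] {B : Subgroup N} [B.Normal]
    {S : Finset (N → ℂ)} (hS : ∀ η, η ∈ S ↔ η ∈ relevantChars B) :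
    ∑ η ∈ irrFinset N \ S, η 1 ^ 2 = (B.index : ℂ) := by
  classical
  have himg : irrFinset N \ S = (irrFinset (N ⧸ B)).image (CfsgLib.Char.inflate B) := by
    ext η
    constructor
    · intro h
      rw [Finset.mem_sdiff, mem_irrFinset] at h
      obtain ⟨σ, hσ, hσe⟩ := TwoClass.exists_deflate (N := B) h.1 (fun y hy =>
        apply_eq_one_of_not_relevant h.1 (fun h' => h.2 ((hS η).2 h')) hy)
      exact Finset.mem_image.2 ⟨σ, mem_irrFinset.2 hσ, hσe.symm⟩
    · intro h
      obtain ⟨σ, hσ, rfl⟩ := Finset.mem_image.1 h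
      refine Finset.mem_sdiff.2 ⟨mem_irrFinset.2 (IsIrrCharacter.inflate B (mem_irrFinset.1 hσ)),
        fun h' => ?_⟩
      obtain ⟨x, hx, hne⟩ := ((hS _).1 h').2
      exact hne (inflate_apply_mem B σ hx)
  rw [himg, Finset.sum_image fun a _ b _ h => inflate_injective B h]
  calc ∑ σ ∈ irrFinset (N ⧸ B), (CfsgLib.Char.inflate B σ 1) ^ 2
      = ∑ σ ∈ irrFinset (N ⧸ B), σ 1 ^ 2 := rfl
    _ = (B.index : ℂ) := by rw [sum_degree_sq, Subgroup.index_eq_card]

/-- A generalized character with equal products against all relevant characters is an integer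
constant on the nonidentity elements of the kernel. -/
theorem exists_int_const {N : Subgroup G} [Fintype N] {B : Subgroup N} [B.Normal]
    {S : Finset (N → ℂ)} (hS : ∀ η, η ∈ S ↔ η ∈ relevantChars B)
    (hone : ∀ k ∈ B, k ≠ 1 → ∑ η ∈ S, η k = -1) {γ : N → ℂ}
    (hγ : Cfsg.IsGeneralizedCharacter N γ) {η₀ : N → ℂ} (hη₀ : η₀ ∈ S)
    (heq : ∀ η ∈ S, Cfsg.classInner γ η = Cfsg.classInner γ η₀) :
    ∃ c : ℤ, ∀ k ∈ B, k ≠ 1 → γ k = c := by
  classical
  have hgen : ∀ η ∈ irrFinset N, Cfsg.IsGeneralizedCharacter N η := fun η h =>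
    IsIrrCharacter.isGeneralized (mem_irrFinset.1 h)
  have hsub : S ⊆ irrFinset N := fun η h => mem_irrFinset.2 ((hS η).1 h).1
  choose! z hz using fun η (h : η ∈ irrFinset N) =>
    IsGeneralized.exists_classInner_eq_int hγ (hgen η h)
  choose! dg hdg0 hdg using fun η (h : η ∈ irrFinset N) =>
    IsIrrCharacter.exists_degree (mem_irrFinset.1 h)
  refine ⟨(∑ η ∈ irrFinset N \ S, z η * dg η) - z η₀, fun k hk hk1 => ?_⟩
  have hexp := congrFun (eq_sum_irr (IsGeneralized.isClassFunction hγ)) k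
  simp only [Finset.sum_apply, Pi.smul_apply, smul_eq_mul] at hexp
  rw [hexp, ← Finset.sum_sdiff hsub, Finset.sum_congr (s₁ := S) rfl fun η hη => by rw [heq η hη],
    ← Finset.mul_sum, hone k hk hk1, hz η₀ (hsub hη₀)]
  push_cast
  rw [Finset.sum_congr rfl fun η hη => by
    rw [hz η (Finset.mem_sdiff.1 hη).1,
      apply_eq_one_of_not_relevant (mem_irrFinset.1 (Finset.mem_sdiff.1 hη).1)
        (fun h' => (Finset.mem_sdiff.1 hη).2 ((hS η).2 h')) hk, hdg η (Finset.mem_sdiff.1 hη).1]]
  ring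

open scoped Classical in
/-- The main contradiction. -/
theorem no_room {A : Subgroup G}
    (hTI : ∀ g : G, g ∉ Subgroup.normalizer (A : Set G) → ∀ k ∈ A, g * k * g⁻¹ ∈ A → k = 1)
    (hC : ∀ k ∈ A, k ≠ 1 → Subgroup.centralizer ({k} : Set G) = A)
    {e r j : ℕ} (he : (A.subgroupOf (Subgroup.normalizer (A : Set G))).index = e) (he2 : 2 ≤ e)
    (hA : Nat.card A = r * (e + 1)) (hr : e + 1 ≤ r)
    (hj : (Subgroup.normalizer (A : Set G)).index = 1 + Nat.card A * j) (hj1 : 1 ≤ j)
    {z a : Subgroup.normalizer (A : Set G)} (hzA : (z : G) ∈ A) (haA : (a : G) ∈ A) (hz1 : z ≠ 1)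
    (ha1 : a ≠ 1) (hz : z * z = 1) (hza : ¬ IsConj z a)
    (hGz : Nat.card {p : G × G // IsConj (z : G) p.1 ∧ IsConj (z : G) p.2 ∧ p.1 * p.2 = (z : G)} = e - 1)
    (hGa : Nat.card {p : G × G // IsConj (z : G) p.1 ∧ IsConj (z : G) p.2 ∧ p.1 * p.2 = (a : G)} = 0)
    (hNz : Nat.card {p : Subgroup.normalizer (A : Set G) × Subgroup.normalizer (A : Set G) //
      IsConj z p.1 ∧ IsConj z p.2 ∧ p.1 * p.2 = z} = e - 1)
    (hNa : Nat.card {p : Subgroup.normalizer (A : Set G) × Subgroup.normalizer (A : Set G) //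
      IsConj z p.1 ∧ IsConj z p.2 ∧ p.1 * p.2 = a} = 0) : False := by
  obtain ⟨N, hN⟩ : ∃ N, N = Subgroup.normalizer (A : Set G) := ⟨_, rfl⟩
  have hAN : A ≤ N := hN ▸ Subgroup.le_normalizer
  have hlt : A < Subgroup.normalizer (A : Set G) := by
    refine lt_of_le_of_ne Subgroup.le_normalizer fun h => ?_
    rw [← h, Subgroup.subgroupOf_self, Subgroup.index_top] at he
    omega
  have hab : ∀ x ∈ A, ∀ y ∈ A, x * y = y * x := fun x hx y hy => by
    by_cases h : y = 1
    · simp [h]
    rw [← hC y hy h] at hx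
    exact Subgroup.mem_centralizer_singleton_iff.1 hx
  subst hN
  have habA : ∀ x y : A.subgroupOf (Subgroup.normalizer (A : Set G)), x * y = y * x := fun x y =>
    Subtype.ext (Subtype.ext (hab _ x.2 _ y.2))
  obtain ⟨B, hB⟩ : ∃ B, B = A.subgroupOf (Subgroup.normalizer (A : Set G)) := ⟨_, rfl⟩
  haveI : B.Normal := hB ▸ Subgroup.normal_in_normalizer
  haveI := Fintype.ofFinite B
  have habB : ∀ x y : B, x * y = y * x := by subst hB; exact habA
  have hCB : ∀ k ∈ B, k ≠ 1 → Subgroup.centralizer ({k} : Set (Subgroup.normalizer (A : Set G))) ≤ B :=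
    hB ▸ centralizer_subgroupOf_le fun k hk hk1 => (hC k hk hk1).le
  have hCB' : ∀ k ∈ B, k ≠ 1 →
      Nat.card (Subgroup.centralizer ({k} : Set (Subgroup.normalizer (A : Set G)))) = Nat.card B :=
    fun k hk hk1 => by
      rw [le_antisymm (hCB k hk hk1) fun x hx => Subgroup.mem_centralizer_singleton_iff.2
        (congrArg Subtype.val (habB ⟨x, hx⟩ ⟨k, hk⟩))]
  have hBA : Nat.card B = Nat.card A := by
    rw [hB]; exact Nat.card_congr (Subgroup.subgroupOfEquivOfLe hAN).toEquiv
  have hidx : B.index = e := by rw [hB]; exact he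
  have hzB : z ∈ B := hB ▸ Subgroup.mem_subgroupOf.2 hzA
  have haB : a ∈ B := hB ▸ Subgroup.mem_subgroupOf.2 haA
  have he0 : (e : ℂ) ≠ 0 := Nat.cast_ne_zero.2 (by omega)
  obtain ⟨S, hS⟩ : ∃ S : Finset (Subgroup.normalizer (A : Set G) → ℂ),
      ∀ η, η ∈ S ↔ η ∈ relevantChars B :=
    ⟨(irrFinset _).filter (fun η => η ∈ relevantChars B), fun η => by
      simp only [Finset.mem_filter, mem_irrFinset]
      exact ⟨And.right, fun h => ⟨h.1, h⟩⟩⟩
  have hirr : ∀ η ∈ S, Cfsg.IsIrrCharacter _ η := fun η h => ((hS η).1 h).1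
  have hsub : S ⊆ irrFinset _ := fun η h => mem_irrFinset.2 (hirr η h)
  have hS1 : ∀ η ∈ S, η 1 = (e : ℂ) := fun η h => by
    obtain ⟨φ, hφ, -, rfl⟩ := exists_indFun_eq_of_centralizer_le hCB (hirr η h) ((hS η).1 h).2
    rw [indFun_one, IsIrrCharacter.apply_one_eq_one hφ habB, mul_one, hidx]
  have hD : ∑ η ∈ irrFinset (Subgroup.normalizer (A : Set G)) \ S, η 1 ^ 2 = (e : ℂ) := by
    rw [sum_sdiff_sq hS, hidx]
  have hfix : ∀ η ∈ irrFinset (Subgroup.normalizer (A : Set G)) \ S, ∀ k ∈ B, η k = η 1 :=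
    fun η hη k hk => apply_eq_one_of_not_relevant (mem_irrFinset.1 (Finset.mem_sdiff.1 hη).1)
      (fun h' => (Finset.mem_sdiff.1 hη).2 ((hS η).2 h')) hk
  have hNcard : (Nat.card (Subgroup.normalizer (A : Set G)) : ℂ) = (e : ℂ) * Nat.card A := by
    rw [← hBA, ← hidx, ← Nat.cast_mul, mul_comm, B.card_mul_index]
  have hconjdeg : ∀ η ∈ irrFinset (Subgroup.normalizer (A : Set G)), conj (η 1) = η 1 :=
    fun η h => by
      obtain ⟨d, -, hd⟩ := IsIrrCharacter.exists_degree (mem_irrFinset.1 h)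
      rw [hd, Complex.conj_natCast]
  have hone : ∀ k ∈ B, k ≠ 1 → ∑ η ∈ S, η k = -1 := fun k hk hk1 => by
    have h := sum_degree_mul_apply k
    rw [if_neg hk1, ← Finset.sum_sdiff hsub, Finset.sum_congr (s₁ := _ \ S) rfl fun η hη => by
      rw [hfix η hη k hk, ← pow_two], hD, Finset.sum_congr (s₁ := S) rfl fun η hη => by
      rw [hS1 η hη], ← Finset.mul_sum] at h
    apply mul_left_cancel₀ he0
    linear_combination h
  have htwo : ∀ k ∈ B, ∀ l ∈ B, k ≠ 1 → ∑ η ∈ S, η k * conj (η l) =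
      (if IsConj k l then (Nat.card A : ℂ) else 0) - e := fun k hk l hl hk1 => by
    have h := sum_irr_mul_conj k l
    rw [hCB' k hk hk1, hBA, ← Finset.sum_sdiff hsub, Finset.sum_congr (s₁ := _ \ S) rfl
      fun η hη => by rw [hfix η hη k hk, hfix η hη l hl, hconjdeg η (Finset.mem_sdiff.1 hη).1,
        ← pow_two], hD] at h
    linear_combination h
  have hwc : (S.card : ℂ) * e = (Nat.card A : ℂ) - 1 := by
    have h := sum_degree_sq (G := Subgroup.normalizer (A : Set G))
    rw [← Finset.sum_sdiff hsub, hD, Finset.sum_congr (s₁ := S) rfl fun η hη => by rw [hS1 η hη],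
      Finset.sum_const, nsmul_eq_mul, hNcard] at h
    apply mul_left_cancel₀ he0
    linear_combination h
  -- the class equations of `N`
  have hclsN : (Nat.card {x : Subgroup.normalizer (A : Set G) // IsConj z x} : ℂ) = e := by
    have h := congrArg (Nat.cast : ℕ → ℂ) (card_conj_class_mul_card_centralizer z)
    push_cast at h
    rw [hCB' z hzB hz1, hBA, hNcard] at h
    exact mul_right_cancel₀ (Nat.cast_ne_zero.2 Nat.card_pos.ne') h
  have hclassN : ∀ k ∈ B, (Nat.card {p : Subgroup.normalizer (A : Set G) × Subgroup.normalizer (A : Set G) //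
      IsConj z p.1 ∧ IsConj z p.2 ∧ p.1 * p.2 = k} : ℂ) * Nat.card A =
      (e : ℂ) ^ 2 + ∑ η ∈ S, η z * η z * conj (η k) := fun k hk => by
    rw [card_class_products, hclsN, hNcard, ← Finset.sum_sdiff hsub,
      Finset.sum_congr (s₁ := _ \ S) rfl fun η hη => by
        rw [hfix η hη z hzB, hfix η hη k hk, hconjdeg η (Finset.mem_sdiff.1 hη).1,
          mul_assoc, mul_div_cancel_left₀ _ (IsIrrCharacter.apply_one_ne_zero
            (mem_irrFinset.1 (Finset.mem_sdiff.1 hη).1)), ← pow_two],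
      hD, Finset.sum_congr (s₁ := S) rfl fun η hη => by rw [hS1 η hη], ← Finset.sum_div]
    have hA0 : (Nat.card A : ℂ) ≠ 0 := Nat.cast_ne_zero.2 Nat.card_pos.ne'
    field_simp
  have hPQ : ∑ η ∈ S, η z * η z * (conj (η z) - conj (η a)) = ((e : ℂ) - 1) * Nat.card A := by
    have h1 := hclassN z hzB
    have h2 := hclassN a haB
    rw [hNz, Nat.cast_sub (by omega), Nat.cast_one] at h1
    rw [hNa, Nat.cast_zero, zero_mul] at h2
    simp only [mul_sub, Finset.sum_sub_distrib]
    linear_combination h2 - h1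
  -- the exceptional characters
  rcases Cfsg.Agent.S0851.result A hTI hlt (fun k hk hk1 => (hC k hk hk1).le) hab with
    ⟨-, p, -, -, hcard⟩ | ⟨ε, f, hε, hfinj, hf⟩
  · rw [he, hA] at hcard
    have : 2 * (e + 1) ≤ r * (e + 1) := Nat.mul_le_mul_right _ (by omega)
    omega
  have hmem : ∀ η ∈ S, ∃ k : Subgroup.normalizer (A : Set G), (k : G) ∈ A ∧ η k ≠ η 1 := fun η h => by
    obtain ⟨k, hk, hne⟩ := ((hS η).1 h).2
    exact ⟨k, Subgroup.mem_subgroupOf.1 (hB ▸ hk), hne⟩
  obtain ⟨F, hFirr, hFinj, hFd⟩ : ∃ F : (Subgroup.normalizer (A : Set G) → ℂ) → G → ℂ,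
      (∀ η ∈ S, Cfsg.IsIrrCharacter G (F η)) ∧ (∀ η ∈ S, ∀ η' ∈ S, F η = F η' → η = η') ∧
      ∀ η ∈ S, ∀ η' ∈ S,
        Cfsg.indFun (Subgroup.normalizer (A : Set G)) (η - η') = ε • (F η - F η') := by
    refine ⟨fun η => if h : η ∈ S then (f ⟨⟨η, hirr η h⟩, hmem η h⟩ : G → ℂ) else 0,
      fun η h => ?_, fun η h η' h' heq => ?_, fun η h η' h' => ?_⟩
    · simp only [dif_pos h]
      exact (f ⟨⟨η, hirr η h⟩, hmem η h⟩).2
    · simp only [dif_pos h, dif_pos h'] at heq
      exact congrArg (fun x => (x.1 : Subgroup.normalizer (A : Set G) → ℂ)) (hfinj (Subtype.ext heq))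
    · simp only [dif_pos h, dif_pos h']
      exact hf ⟨⟨η, hirr η h⟩, hmem η h⟩ ⟨⟨η', hirr η' h'⟩, hmem η' h'⟩
  have hεsq : ε * ε = 1 := by rcases hε with h | h <;> simp [h]
  have hεreal : conj ε = ε := by rcases hε with h | h <;> simp [h]
  obtain ⟨η₀, hη₀⟩ : S.Nonempty := by
    rw [← Finset.card_pos]
    by_contra h0
    rw [Nat.eq_zero_of_not_pos h0, Nat.cast_zero, zero_mul, eq_comm, sub_eq_zero, Nat.cast_eq_one] at hwc
    rw [hA] at hwc
    have : 2 * (e + 1) ≤ r * (e + 1) := Nat.mul_le_mul_right _ (by omega)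
    omega
  have hrel : ∀ η ∈ S, ∀ x : Subgroup.normalizer (A : Set G), (x : G) ∉ A → η x = 0 := fun η h x hx =>
    relevant_apply_eq_zero hCB ((hS η).1 h) fun hh => hx (Subgroup.mem_subgroupOf.1 (hB ▸ hh))
  have hrec : ∀ ψ : G → ℂ, Cfsg.IsIrrCharacter G ψ → ∀ η ∈ S, ∀ η' ∈ S,
      Cfsg.classInner (η - η') (fun x : Subgroup.normalizer (A : Set G) => ψ x) =
        ε * ((if F η = ψ then 1 else 0) - (if F η' = ψ then 1 else 0)) := fun ψ hψ η h η' h' => by
    rw [← classInner_indFun _ (IsIrrCharacter.isClassFunction hψ), hFd η h η' h',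
      classInner_smul_left, classInner_sub_left,
      IsIrrCharacter.classInner_eq (hFirr η h) hψ, IsIrrCharacter.classInner_eq (hFirr η' h') hψ]
  have hresgen : ∀ ψ : G → ℂ, Cfsg.IsIrrCharacter G ψ →
      Cfsg.IsGeneralizedCharacter _ (fun x : Subgroup.normalizer (A : Set G) => ψ x) := fun ψ hψ =>
    IsGeneralized.restrict (IsIrrCharacter.isGeneralized hψ) _
  -- constant on `A` outside the exceptional set
  have hnonexc : ∀ ψ : G → ℂ, Cfsg.IsIrrCharacter G ψ → (∀ η ∈ S, F η ≠ ψ) →
      ψ (z : G) = ψ (a : G) := fun ψ hψ hno => by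
    obtain ⟨c, hc⟩ := exists_int_const hS hone (hresgen ψ hψ) hη₀ fun η h => by
      have h1 := hrec ψ hψ η h η₀ hη₀
      rw [if_neg (hno η h), if_neg (hno η₀ hη₀), sub_self, mul_zero, classInner_sub_left,
        sub_eq_zero] at h1
      rw [← classInner_conj η, ← classInner_conj η₀, h1]
    exact (hc z hzB hz1).trans (hc a haB ha1).symm
  -- exceptional values
  obtain ⟨c, hc⟩ : ∃ c : ℤ, ∀ η ∈ S, ∀ k ∈ B, k ≠ 1 → F η (k : G) = ε * η k + c := by
    obtain ⟨c, hc⟩ := exists_int_const hS hone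
      (γ := (fun x : Subgroup.normalizer (A : Set G) => F η₀ x) - ε • η₀)
      (IsGeneralized.sub (hresgen _ (hFirr η₀ hη₀)) (by
        rcases hε with h | h
        · rw [h, one_smul]; exact IsIrrCharacter.isGeneralized (hirr η₀ hη₀)
        · rw [h, neg_one_smul]; exact IsGeneralized.neg (IsIrrCharacter.isGeneralized (hirr η₀ hη₀))))
      hη₀ fun η h => by
        have h1 := hrec _ (hFirr η₀ hη₀) η h η₀ hη₀
        rw [if_pos rfl, classInner_sub_left] at h1
        rw [← classInner_conj η, ← classInner_conj η₀]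
        congr 1
        rw [classInner_sub_right, classInner_sub_right, classInner_smul_right, classInner_smul_right,
          hεreal, IsIrrCharacter.classInner_self (hirr η₀ hη₀),
          IsIrrCharacter.classInner_eq (hirr η h) (hirr η₀ hη₀)]
        by_cases he' : η = η₀
        · rw [he', if_pos rfl]
        · rw [if_neg (fun e' => he' (hFinj η h η₀ hη₀ e'))] at h1
          rw [if_neg he']
          linear_combination h1
    refine ⟨c, fun η h k hk hk1 => ?_⟩
    have h1 := indFun_apply_TI (T := (A : Set G)) hTI (θ := η - η₀)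
      (fun x y => by simp only [Pi.sub_apply, IsIrrCharacter.isClassFunction (hirr η h) x y,
        IsIrrCharacter.isClassFunction (hirr η₀ hη₀) x y])
      (fun x hx => by simp [hrel η h x hx, hrel η₀ hη₀ x hx]) k
      (Subgroup.mem_subgroupOf.1 (hB ▸ hk)) hk1
    rw [hFd η h η₀ hη₀] at h1
    have h2 := hc k hk hk1
    simp only [Pi.sub_apply, Pi.smul_apply, smul_eq_mul] at h1 h2
    linear_combination ε * h1 + h2 - (F η (k : G) - F η₀ (k : G)) * hεsq
  obtain ⟨d, hd0, hd⟩ := IsIrrCharacter.exists_degree (hFirr η₀ hη₀)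
  have hdeg : ∀ η ∈ S, F η 1 = (d : ℂ) := fun η h => by
    have h1 := congrFun (hFd η h η₀ hη₀) 1
    rw [indFun_one] at h1
    simp only [Pi.sub_apply, Pi.smul_apply, smul_eq_mul, hS1 η h, hS1 η₀ hη₀, sub_self, mul_zero,
      hd] at h1
    rcases hε with h' | h' <;> rw [h'] at h1
    · linear_combination -h1
    · linear_combination h1
  -- the class equation of `G`
  have hzz : z⁻¹ = z := inv_eq_of_mul_eq_one_right hz
  have hzreal : ∀ η ∈ S, conj (η z) = η z := fun η h => by
    rw [← IsIrrCharacter.apply_inv (hirr η h) z, hzz]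
  have hCz : Nat.card (Subgroup.centralizer ({(z : G)} : Set G)) = Nat.card A := by
    rw [hC _ hzA fun h => hz1 (Subtype.ext h)]
  have hA0 : (Nat.card A : ℂ) ≠ 0 := Nat.cast_ne_zero.2 Nat.card_pos.ne'
  have hd' : (d : ℂ) ≠ 0 := Nat.cast_ne_zero.2 hd0.ne'
  have hG : (Nat.card G : ℂ) = ((Subgroup.normalizer (A : Set G)).index : ℂ) *
      ((e : ℂ) * Nat.card A) := by
    rw [← hNcard, ← Nat.cast_mul, Subgroup.index_mul_card]
  have hG0 : (Nat.card G : ℂ) ≠ 0 := Nat.cast_ne_zero.2 Nat.card_pos.ne'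
  have hclsG : (Nat.card {x : G // IsConj (z : G) x} : ℂ) * Nat.card A = Nat.card G := by
    rw [← hCz, ← Nat.cast_mul, card_conj_class_mul_card_centralizer]
  have hmain : ((e : ℂ) - 1) * d =
      ((Subgroup.normalizer (A : Set G)).index : ℂ) * e * (ε * ((e : ℂ) - 1) + 2 * c) := by
    have h1 := card_class_products (z : G) (z : G) (z : G)
    have h2 := card_class_products (z : G) (z : G) (a : G)
    rw [hGz, Nat.cast_sub (by omega), Nat.cast_one] at h1
    rw [hGa, Nat.cast_zero] at h2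
    have hdiff : ((e : ℂ) - 1) = (Nat.card {x : G // IsConj (z : G) x} : ℂ) *
        (Nat.card {x : G // IsConj (z : G) x} : ℂ) / (Nat.card G : ℂ) *
        ∑ χ ∈ irrFinset G, χ z * χ z * (conj (χ z) - conj (χ a)) / χ 1 := by
      simp only [mul_sub, sub_div, Finset.sum_sub_distrib]
      linear_combination h1 - h2
    rw [← Finset.sum_subset (s₁ := S.image F) (fun ψ hψ => by
        obtain ⟨η, h, rfl⟩ := Finset.mem_image.1 hψ
        exact mem_irrFinset.2 (hFirr η h)) (fun ψ hψ hno => by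
        rw [hnonexc ψ (mem_irrFinset.1 hψ) fun η h e' => hno (Finset.mem_image.2 ⟨η, h, e'⟩)]
        simp),
      Finset.sum_image hFinj] at hdiff
    have hsum : ∑ η ∈ S, F η z * F η z * (conj (F η z) - conj (F η a)) / F η 1 =
        (Nat.card A : ℂ) * (ε * ((e : ℂ) - 1) + 2 * c) / d := by
      rw [Finset.sum_congr rfl fun η h => by
        rw [hdeg η h, hc η h z hzB hz1, hc η h a haB ha1, map_add, map_add, map_mul, map_mul,
          hεreal, map_intCast], ← Finset.sum_div]
      congr 1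
      have e1 : ∀ η ∈ S, (ε * η z + c) * (ε * η z + c) *
          (ε * conj (η z) + (c : ℂ) - (ε * conj (η a) + c)) =
          ε * (η z * η z * (conj (η z) - conj (η a))) +
            2 * (c : ℂ) * (η z * conj (η z) - η z * conj (η a)) +
            ε * (c : ℂ) ^ 2 * (conj (η z) - conj (η a)) := fun η _ => by
        linear_combination (ε * (η z * η z * (conj (η z) - conj (η a))) +
          2 * (c : ℂ) * (η z * conj (η z) - η z * conj (η a))) * hεsq
      rw [Finset.sum_congr rfl e1, Finset.sum_add_distrib, Finset.sum_add_distrib, ← Finset.mul_sum,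
        ← Finset.mul_sum, ← Finset.mul_sum, hPQ, Finset.sum_sub_distrib, Finset.sum_sub_distrib,
        htwo z hzB z hzB hz1, htwo z hzB a haB hz1, if_pos (IsConj.refl z), if_neg hza,
        ← map_sum, ← map_sum, hone z hzB hz1, hone a haB ha1]
      ring
    rw [hsum] at hdiff
    have hk : (Nat.card {x : G // IsConj (z : G) x} : ℂ) = Nat.card G / Nat.card A := by
      rw [eq_div_iff hA0, hclsG]
    rw [hk] at hdiff
    field_simp at hdiff
    rw [hG] at hdiff
    apply mul_left_cancel₀ hA0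
    linear_combination hdiff
  -- congruence
  have hcong : ∃ k : ℤ, (d : ℂ) = ε * e - (c : ℂ) * ((Nat.card A : ℂ) - 1) + (k : ℂ) * Nat.card A := by
    obtain ⟨k, hk⟩ := IsGeneralized.exists_classInner_eq_int
      (IsGeneralized.restrict (hresgen _ (hFirr η₀ hη₀)) B) isGeneralized_one
    rw [classInner_def, hBA, inv_mul_eq_iff_eq_mul₀ hA0] at hk
    refine ⟨k, ?_⟩
    have hpt : ∀ x : B, F η₀ ((x : Subgroup.normalizer (A : Set G)) : G) =
        ε * η₀ (x : Subgroup.normalizer (A : Set G)) + c +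
          (if x = 1 then (d : ℂ) - (ε * e + c) else 0) := fun x => by
      by_cases hx : x = 1
      · subst hx
        rw [if_pos rfl, Subgroup.coe_one, Subgroup.coe_one, hd, hS1 η₀ hη₀]
        ring
      · rw [if_neg hx, hc η₀ hη₀ x x.2 fun h => hx (Subtype.ext h), add_zero]
    have hsumB : ∑ x : B, η₀ (x : Subgroup.normalizer (A : Set G)) = 0 := by
      have h0 := classInner_relevant_one ((hS η₀).1 hη₀)
      rw [classInner_def, mul_eq_zero] at h0
      have h0' := h0.resolve_left (inv_ne_zero (Nat.cast_ne_zero.2 Nat.card_pos.ne'))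
      simp only [map_one, mul_one] at h0'
      rw [← h0', ← Finset.sum_subtype (p := fun x => x ∈ B) (Finset.univ.filter (· ∈ B))
        (fun x => by simp) η₀]
      refine Finset.sum_subset (Finset.subset_univ _) fun x _ hx => ?_
      exact relevant_apply_eq_zero hCB ((hS η₀).1 hη₀) (by simpa using hx)
    simp only [map_one, mul_one, hpt, Finset.sum_add_distrib, Finset.sum_ite_eq', Finset.mem_univ,
      if_true, ← Finset.mul_sum, hsumB, mul_zero, zero_add, Finset.sum_const, Finset.card_univ,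
      nsmul_eq_mul, ← Nat.card_eq_fintype_card, hBA] at hk
    linear_combination hk
  obtain ⟨k, hk⟩ := hcong
  obtain ⟨s, hs, hεs⟩ : ∃ s : ℤ, (s = 1 ∨ s = -1) ∧ ε = (s : ℂ) := by
    rcases hε with h | h
    · exact ⟨1, Or.inl rfl, by simp [h]⟩
    · exact ⟨-1, Or.inr rfl, by simp [h]⟩
  subst hεs
  -- the norm bound
  have hbound : (S.card : ℤ) * c ^ 2 - 2 * s * c + ((Nat.card A : ℤ) - e) ≤ (Nat.card A : ℤ) := by
    have hX : ∑ η ∈ S, F η z * conj (F η z) =
        (((S.card : ℤ) * c ^ 2 - 2 * s * c + ((Nat.card A : ℤ) - e) : ℤ) : ℂ) := by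
      rw [Finset.sum_congr rfl fun η h => by
        rw [hc η h z hzB hz1, map_add, map_mul, map_intCast, map_intCast,
          show ((s : ℂ) * η z + c) * ((s : ℂ) * conj (η z) + c) =
            η z * conj (η z) + (s : ℂ) * c * (η z + conj (η z)) + (c : ℂ) ^ 2 by
              linear_combination (η z * conj (η z)) * hεsq],
        Finset.sum_add_distrib, Finset.sum_add_distrib, ← Finset.mul_sum, Finset.sum_add_distrib,
        ← map_sum, hone z hzB hz1, htwo z hzB z hzB hz1, if_pos (IsConj.refl z), Finset.sum_const,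
        nsmul_eq_mul, map_neg, map_one]
      push_cast
      ring
    have htot := sum_irr_mul_conj (z : G) (z : G)
    rw [if_pos (IsConj.refl _), hCz] at htot
    simp only [Complex.mul_conj'] at hX htot
    have hX' : ∑ η ∈ S, ‖F η z‖ ^ 2 =
        (((S.card : ℤ) * c ^ 2 - 2 * s * c + ((Nat.card A : ℤ) - e) : ℤ) : ℝ) := by
      exact_mod_cast hX
    have htot' : ∑ ψ ∈ irrFinset G, ‖ψ (z : G)‖ ^ 2 = (Nat.card A : ℝ) := by exact_mod_cast htot
    have hle : ∑ η ∈ S, ‖F η z‖ ^ 2 ≤ ∑ ψ ∈ irrFinset G, ‖ψ (z : G)‖ ^ 2 := by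
      rw [← Finset.sum_image (s := S) (f := fun ψ : G → ℂ => ‖ψ (z : G)‖ ^ 2) hFinj]
      exact Finset.sum_le_sum_of_subset_of_nonneg (fun ψ hψ => by
        obtain ⟨η, h, rfl⟩ := Finset.mem_image.1 hψ
        exact mem_irrFinset.2 (hFirr η h)) fun ψ _ _ => sq_nonneg _
    rw [hX', htot'] at hle
    exact_mod_cast hle
  -- the degree bound
  have hdsq : d ^ 2 ≤ Nat.card G := by
    have h := sum_degree_sq (G := G)
    choose! dg _ hdg using fun (χ : G → ℂ) (h : χ ∈ irrFinset G) =>
      IsIrrCharacter.exists_degree (mem_irrFinset.1 h)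
    rw [Finset.sum_congr rfl fun χ h => by rw [hdg χ h]] at h
    have h' : ∑ χ ∈ irrFinset G, dg χ ^ 2 = Nat.card G := by exact_mod_cast h
    have hm : F η₀ ∈ irrFinset G := mem_irrFinset.2 (hFirr η₀ hη₀)
    have heq : dg (F η₀) = d := Nat.cast_injective ((hdg _ hm).symm.trans hd)
    rw [← h', ← heq]
    exact Finset.single_le_sum (f := fun χ => dg χ ^ 2) (fun χ _ => Nat.zero_le _) hm
  rw [← Subgroup.index_mul_card (Subgroup.normalizer (A : Set G))] at hdsq
  rw [show Nat.card (Subgroup.normalizer (A : Set G)) = e * Nat.card A from Nat.cast_injective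
    (R := ℂ) (by rw [hNcard, Nat.cast_mul])] at hdsq
  have hwc' : (S.card : ℤ) * e = (Nat.card A : ℤ) - 1 := by exact_mod_cast hwc
  have hk' : (d : ℤ) = s * e - c * ((Nat.card A : ℤ) - 1) + k * Nat.card A := by exact_mod_cast hk
  have hmain' : ((e : ℤ) - 1) * d =
      ((Subgroup.normalizer (A : Set G)).index : ℤ) * e * (s * ((e : ℤ) - 1) + 2 * c) := by
    exact_mod_cast hmain
  have hdsq' : (d : ℤ) ^ 2 ≤
      ((Subgroup.normalizer (A : Set G)).index : ℤ) * ((e : ℤ) * Nat.card A) := by exact_mod_cast hdsq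
  rw [hA] at hwc' hk' hbound hdsq' hj
  rw [hj] at hdsq' hmain'
  push_cast at hwc' hk' hbound hdsq' hmain'
  exact arith_false (e := e) (r := r) (j := j) (by omega) (by omega) hs (by omega)
    (n := 1 + (r : ℤ) * (e + 1) * j) rfl hmain' hk' hwc' hbound
    (by rw [mul_assoc _ (e : ℤ)]; exact hdsq')

end CfsgLib.CTGroup
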