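import Cfsg.Agent.CTGroup.ExceptionalBound
import Cfsg.Agent.S0182
import Cfsg.Agent.S1230
import Cfsg.Agent.Invol.Dihedral

/-!
# Simple groups in which commuting is transitive

The centraliser `A` of an involution is an abelian TI subgroup, all involutions are conjugate, and
`CfsgLib.CTGroup.no_room` forces `A` to be an elementary abelian Sylow `2`-subgroup.
-/

set_option autoImplicit false
set_option linter.style.haveILetI false

namespace CfsgLib.CTGroup

universe u

variable {G : Type u} [Group G] [Finite G]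

/-- The elements of square one of an abelian subgroup. -/
def omegaOne (A : Subgroup G) (hab : ∀ x ∈ A, ∀ y ∈ A, x * y = y * x) : Subgroup G where
  carrier := {x | x ∈ A ∧ x * x = 1}
  one_mem' := ⟨A.one_mem, one_mul 1⟩
  mul_mem' := fun {x y} hx hy => ⟨A.mul_mem hx.1 hy.1, by
    rw [mul_assoc, ← mul_assoc y x, hab y hy.1 x hx.1, mul_assoc x y, ← mul_assoc x x, hx.2, one_mul,
      hy.2]⟩
  inv_mem' := fun {x} hx => ⟨A.inv_mem hx.1, by rw [← mul_inv_rev, hx.2, inv_one]⟩

/-- If the centraliser of an involution is abelian and is the centraliser of each of its nontrivial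
elements, then the group is `PSL(2, 2^f)` and these centralisers are elementary abelian. -/
theorem psl_two_even_of_invCA [IsSimpleGroup G] (hG : ¬ IsMulCommutative G) (h2 : 2 ∣ Nat.card G)
    (hI : ∀ v : G, v * v = 1 → v ≠ 1 →
      (∀ a ∈ Subgroup.centralizer ({v} : Set G), ∀ b ∈ Subgroup.centralizer ({v} : Set G),
        a * b = b * a) ∧
      ∀ x ∈ Subgroup.centralizer ({v} : Set G), x ≠ 1 →
        Subgroup.centralizer ({x} : Set G) = Subgroup.centralizer ({v} : Set G)) :
    (∀ t : G, orderOf t = 2 → IsMulCommutative (Subgroup.centralizer ({t} : Set G)) ∧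
      ∀ c ∈ Subgroup.centralizer ({t} : Set G), c ^ 2 = 1) ∧
    ∃ (F : Type) (_ : Field F) (_ : Fintype F) (f : ℕ), 2 ≤ f ∧ Fintype.card F = 2 ^ f ∧
      Nonempty (G ≃* Matrix.ProjectiveSpecialLinearGroup (Fin 2) F) := by
  classical
  haveI := Fintype.ofFinite G
  haveI : Fact (Nat.Prime 2) := ⟨Nat.prime_two⟩
  have hcomm : ¬ ∀ a b : G, a * b = b * a := fun h => hG ⟨⟨h⟩⟩
  obtain ⟨T⟩ := (inferInstance : Nonempty (Sylow 2 G))
  have hTbot : (T : Subgroup G) ≠ ⊥ := fun h => by
    have := T.dvd_card_of_dvd_card h2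
    rw [h, Subgroup.card_bot] at this
    omega
  haveI : Nontrivial (T : Subgroup G) := (Subgroup.nontrivial_iff_ne_bot _).2 hTbot
  haveI := T.2.center_nontrivial
  obtain ⟨z₀, hz₀⟩ : ∃ z : Subgroup.center (T : Subgroup G), orderOf z = 2 := by
    refine exists_prime_orderOf_dvd_card' 2 ?_
    obtain ⟨k, hk⟩ := (T.2.to_subgroup (Subgroup.center (T : Subgroup G))).exists_card_eq
    rcases Nat.eq_zero_or_pos k with rfl | hk0
    · exact absurd hk Finite.one_lt_card.ne'
    · rw [hk]; exact dvd_pow_self 2 hk0.ne'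
  obtain ⟨z, hzdef⟩ : ∃ z : G, z = ((z₀ : (T : Subgroup G)) : G) := ⟨_, rfl⟩
  have hzT : z ∈ (T : Subgroup G) := hzdef ▸ (z₀ : (T : Subgroup G)).2
  have hz2 : orderOf z = 2 := by rw [hzdef, Subgroup.orderOf_coe, Subgroup.orderOf_coe, hz₀]
  have hz1 : z ≠ 1 := fun h => by rw [h, orderOf_one] at hz2; omega
  have hzz : z * z = 1 := by rw [← pow_two, ← hz2, pow_orderOf_eq_one]
  obtain ⟨A, hAdef⟩ : ∃ A, A = Subgroup.centralizer ({z} : Set G) := ⟨_, rfl⟩
  have hzA : z ∈ A := hAdef ▸ Subgroup.mem_centralizer_singleton_iff.2 rfl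
  have hTA : (T : Subgroup G) ≤ A := fun t ht => by
    rw [hAdef, Subgroup.mem_centralizer_singleton_iff, hzdef]
    exact congrArg Subtype.val (Subgroup.mem_center_iff.1 z₀.2 ⟨t, ht⟩)
  have hC : ∀ x ∈ A, x ≠ 1 → Subgroup.centralizer ({x} : Set G) = A := fun x hx hx1 => by
    subst hAdef; exact (hI z hzz hz1).2 x hx hx1
  have hab : ∀ x ∈ A, ∀ y ∈ A, x * y = y * x := fun x hx y hy => by
    subst hAdef; exact (hI z hzz hz1).1 x hx y hy
  have hTI : ∀ g : G, g ∉ Subgroup.normalizer (A : Set G) → ∀ k ∈ A, g * k * g⁻¹ ∈ A → k = 1 :=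
    fun g hg k hk hgk => CfsgLib.Char.eq_one_of_centralizer_eq hC hg hk hgk
  have hAtop : A ≠ ⊤ := fun h => hcomm fun a b => hab a (h ▸ trivial) b (h ▸ trivial)
  have hNtop : Subgroup.normalizer (A : Set G) ≠ ⊤ := fun h => by
    rcases (Subgroup.normalizer_eq_top_iff.1 h).eq_bot_or_eq_top with h' | h'
    · exact hz1 (Subgroup.mem_bot.1 (h' ▸ hzA))
    · exact hAtop h'
  -- one class of involutions
  have hone : ∀ v : G, v * v = 1 → v ≠ 1 → IsConj z v := by
    intro v hv hv1
    have hv2 : orderOf v = 2 := orderOf_eq_prime (by rw [pow_two, hv]) hv1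
    by_contra hno
    have hsub : Subgroup.normalClosure ({z} : Set G) ≤ Subgroup.centralizer ({v} : Set G) := by
      rw [Subgroup.normalClosure, Subgroup.closure_le]
      intro u hu
      obtain ⟨w, hw, hwu⟩ := Group.mem_conjugatesOfSet_iff.1 hu
      rw [Set.mem_singleton_iff] at hw
      rw [hw] at hwu
      obtain ⟨g, hg⟩ := isConj_iff.1 hwu
      have hu2 : orderOf u = 2 := by
        rw [← hg, ← MulAut.conj_apply, MulEquiv.orderOf_eq, hz2]
      have hnc : ¬ IsConj u v := fun h => hno (hwu.trans h)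
      have heven := CfsgLib.Invol.even_orderOf_mul_of_not_isConj hu2 hv2 hnc
      have hh2 := CfsgLib.Invol.orderOf_pow_half (isOfFinOrder_of_finite (u * v)) heven
      have hc1 := CfsgLib.Invol.commute_half (CfsgLib.Invol.conj_mul_inv hu2 hv2) heven
      have hw1 : (u * v) ^ (orderOf (u * v) / 2) ≠ 1 := fun h => by
        rw [h, orderOf_one] at hh2; omega
      have huu : u * u = 1 := by rw [← pow_two, ← hu2, pow_orderOf_eq_one]
      have hc2 : Commute ((u * v) ^ (orderOf (u * v) / 2)) v := by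
        have := hc1.mul_right ((Commute.refl (u * v)).pow_left _)
        rwa [← mul_assoc, huu, one_mul] at this
      show u ∈ Subgroup.centralizer ({v} : Set G)
      rw [Subgroup.mem_centralizer_singleton_iff]
      have hu1 : u ≠ 1 := fun h => by rw [h, orderOf_one] at hu2; omega
      have he := (hI u huu hu1).2 _ (Subgroup.mem_centralizer_singleton_iff.2 hc1.eq) hw1
      have hvu : v ∈ Subgroup.centralizer ({u} : Set G) :=
        he ▸ Subgroup.mem_centralizer_singleton_iff.2 hc2.symm.eq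
      exact (Subgroup.mem_centralizer_singleton_iff.1 hvu).symm
    rcases (Subgroup.normalClosure_normal (s := ({z} : Set G))).eq_bot_or_eq_top with h | h
    · exact hz1 (Subgroup.mem_bot.1 (h ▸ Subgroup.subset_normalClosure (Set.mem_singleton z)))
    · have hvc : v ∈ Subgroup.center G := Subgroup.mem_center_iff.2 fun g =>
        Subgroup.mem_centralizer_singleton_iff.1 (hsub (h ▸ Subgroup.mem_top g))
      rcases (inferInstance : (Subgroup.center G).Normal).eq_bot_or_eq_top with h' | h'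
      · exact hv1 (Subgroup.mem_bot.1 (h' ▸ hvc))
      · exact hcomm fun a b => Subgroup.mem_center_iff.1 (h' ▸ Subgroup.mem_top b) a
  have hfuse : ∀ v ∈ A, v * v = 1 → v ≠ 1 → ∃ g ∈ Subgroup.normalizer (A : Set G),
      g * z * g⁻¹ = v := fun v hvA hv hv1 => by
    obtain ⟨g, hg⟩ := isConj_iff.1 (hone v hv hv1)
    refine ⟨g, ?_, hg⟩
    by_contra hgN
    exact hz1 (hTI g hgN z hzA (hg ▸ hvA))
  -- the classes of `z` in `G` and in the normaliser
  obtain ⟨zN, hzN⟩ : ∃ x : Subgroup.normalizer (A : Set G), x = ⟨z, Subgroup.le_normalizer hzA⟩ :=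
    ⟨_, rfl⟩
  have hzNv : (zN : G) = z := by rw [hzN]
  have hisc : ∀ x : G, IsConj z x ↔ x * x = 1 ∧ x ≠ 1 := fun x => by
    refine ⟨fun h => ?_, fun h => hone x h.1 h.2⟩
    obtain ⟨g, rfl⟩ := isConj_iff.1 h
    exact ⟨by rw [conj_mul, hzz]; simp, fun h1 => hz1 (conj_eq_one_iff.1 h1)⟩
  have hiscN : ∀ x : Subgroup.normalizer (A : Set G),
      IsConj zN x ↔ (x : G) ∈ A ∧ (x : G) * x = 1 ∧ (x : G) ≠ 1 := fun x => by
    refine ⟨fun h => ?_, fun h => ?_⟩
    · obtain ⟨g, rfl⟩ := isConj_iff.1 h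
      refine ⟨?_, (hisc _).1 (isConj_iff.2 ⟨(g : G), by simp [hzNv]⟩)⟩
      simp only [Subgroup.coe_mul, Subgroup.coe_inv, hzNv]
      exact (Subgroup.mem_normalizer_iff.1 g.2 z).1 hzA
    · obtain ⟨g, hgN, hg⟩ := hfuse x h.1 h.2.1 h.2.2
      exact isConj_iff.2 ⟨⟨g, hgN⟩, Subtype.ext (by simp [hzNv, hg])⟩
  -- the index
  obtain ⟨e, he⟩ : ∃ e, (A.subgroupOf (Subgroup.normalizer (A : Set G))).index = e := ⟨_, rfl⟩
  haveI : (A.subgroupOf (Subgroup.normalizer (A : Set G))).Normal := Subgroup.normal_in_normalizer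
  have heodd : ¬ 2 ∣ e := fun h => by
    refine T.not_dvd_index' ?_ (h.trans ?_)
    · exact Subgroup.index_ne_zero_of_finite
    · rw [← he]
      exact (Subgroup.relIndex_dvd_index_of_le Subgroup.le_normalizer).trans
        (Subgroup.index_dvd_of_le hTA)
  have he2 : 2 ≤ e := by
    by_contra hlt
    have he1 : e = 1 := by
      have : e ≠ 0 := he ▸ Subgroup.index_ne_zero_of_finite
      omega
    rw [he1, Subgroup.index_eq_one, Subgroup.subgroupOf_eq_top] at he
    have hNT : Subgroup.normalizer ((T : Subgroup G) : Set G) ≤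
        Subgroup.centralizer ((T : Subgroup G) : Set G) := fun g hg => by
      have hgA : g ∈ A := he (by
        by_contra hgN
        exact hz1 (hTI g hgN z hzA (hTA ((Subgroup.mem_normalizer_iff.1 hg z).1 hzT))))
      exact Subgroup.mem_centralizer_iff.2 fun t ht => hab t (hTA ht) g hgA
    have hc := MonoidHom.ker_transferSylow_isComplement' T hNT
    rcases (MonoidHom.normal_ker (MonoidHom.transferSylow T hNT)).eq_bot_or_eq_top with h | h
    · rw [h] at hc
      exact hAtop (top_le_iff.1 (le_of_eq_of_le (Subgroup.isComplement'_bot_left.1 hc).symm hTA))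
    · rw [h] at hc
      exact hTbot (Subgroup.isComplement'_top_left.1 hc)
  have hclass : Nat.card {x : Subgroup.normalizer (A : Set G) // IsConj zN x} = e := by
    have h := CfsgLib.Char.card_conj_class_mul_card_centralizer zN
    have hcent : Subgroup.centralizer ({zN} : Set (Subgroup.normalizer (A : Set G))) =
        A.subgroupOf (Subgroup.normalizer (A : Set G)) := by
      ext x
      rw [Subgroup.mem_centralizer_singleton_iff, Subgroup.mem_subgroupOf, Subtype.ext_iff,
        Subgroup.coe_mul, Subgroup.coe_mul, hzNv, ← Subgroup.mem_centralizer_singleton_iff]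
      exact (SetLike.ext_iff.1 hAdef _).symm
    rw [hcent, ← (A.subgroupOf (Subgroup.normalizer (A : Set G))).index_mul_card, he] at h
    exact Nat.eq_of_mul_eq_mul_right Nat.card_pos h
  obtain ⟨Ω, hΩdef⟩ : ∃ Ω, Ω = omegaOne A hab := ⟨_, rfl⟩
  have hmemΩ : ∀ x, x ∈ Ω ↔ x ∈ A ∧ x * x = 1 := fun x => hΩdef ▸ Iff.rfl
  obtain ⟨X, hX⟩ : ∃ X : Finset G, X = Finset.univ.filter (fun x => x ∈ A ∧ x * x = 1) := ⟨_, rfl⟩
  have hmemX : ∀ x, x ∈ X ↔ x ∈ A ∧ x * x = 1 := fun x => by simp [hX]
  have hXΩ : X.card = Nat.card Ω := by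
    rw [← Nat.card_eq_finsetCard]
    exact Nat.card_congr (Equiv.subtypeEquivRight fun x => by rw [hmemX, hmemΩ])
  have hX1 : X.card = e + 1 := by
    rw [← Finset.card_erase_add_one ((hmemX 1).2 ⟨A.one_mem, one_mul 1⟩), ← hclass,
      ← Nat.card_eq_finsetCard]
    congr 1
    refine (Nat.card_congr ?_).symm
    exact
      { toFun := fun x => ⟨((x : Subgroup.normalizer (A : Set G)) : G), Finset.mem_erase.2
          ⟨((hiscN _).1 x.2).2.2, (hmemX _).2 ⟨((hiscN _).1 x.2).1, ((hiscN _).1 x.2).2.1⟩⟩⟩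
        invFun := fun u => ⟨⟨(u : G), Subgroup.le_normalizer ((hmemX _).1
            (Finset.mem_erase.1 u.2).2).1⟩, (hiscN _).2 ⟨((hmemX _).1 (Finset.mem_erase.1 u.2).2).1,
              ((hmemX _).1 (Finset.mem_erase.1 u.2).2).2, (Finset.mem_erase.1 u.2).1⟩⟩
        left_inv := fun x => rfl
        right_inv := fun u => rfl }
  by_cases hsq : ∀ a ∈ A, a * a = 1
  · -- `A` is elementary abelian
    have hA2 : IsPGroup 2 A := fun a => ⟨1, Subtype.ext (by simpa [pow_two] using hsq a a.2)⟩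
    have hAT : A = (T : Subgroup G) := T.3 hA2 hTA
    have hcardA : Nat.card A = e + 1 := by
      rw [← hX1, hXΩ]
      rw [show A = Ω from SetLike.ext fun x => by
        rw [hmemΩ]; exact ⟨fun h => ⟨h, hsq x h⟩, And.left⟩]
    have hnc : ¬ IsCyclic (T : Subgroup G) := fun hcyc => by
      obtain ⟨g, hg⟩ := hcyc.exists_ofOrder_eq_natCard
      have hle : orderOf g ≤ 2 := orderOf_le_of_pow_eq_one (by norm_num) (Subtype.ext (by
        simpa [pow_two] using hsq g (hTA g.2)))
      rw [hg, ← hAT, hcardA] at hle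
      omega
    have hnn : ¬ (T : Subgroup G).Normal := fun hn => by
      rcases hn.eq_bot_or_eq_top with h | h
      · exact hTbot h
      · exact hAtop (hAT.trans h)
    have helem : ∀ t : G, orderOf t = 2 → IsMulCommutative (Subgroup.centralizer ({t} : Set G)) ∧
        ∀ c ∈ Subgroup.centralizer ({t} : Set G), c ^ 2 = 1 := fun t ht => by
      have ht1 : t ≠ 1 := fun h => by rw [h, orderOf_one] at ht; omega
      refine ⟨⟨⟨fun a b => Subtype.ext ((hI t (by rw [← pow_two, ← ht, pow_orderOf_eq_one]) ht1).1 a a.2 b b.2)⟩⟩, fun c hc => ?_⟩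
      obtain ⟨g, hg⟩ := isConj_iff.1 (hone t (by rw [← pow_two, ← ht, pow_orderOf_eq_one]) ht1)
      have hmem : g⁻¹ * c * g ∈ A := by
        rw [hAdef, Subgroup.mem_centralizer_singleton_iff]
        rw [Subgroup.mem_centralizer_singleton_iff, ← hg] at hc
        calc g⁻¹ * c * g * z = g⁻¹ * (c * (g * z * g⁻¹)) * g := by group
          _ = _ := by rw [hc]; group
      have h := hsq _ hmem
      rw [pow_two]
      calc c * c = g * (g⁻¹ * c * g * (g⁻¹ * c * g)) * g⁻¹ := by group
        _ = 1 := by rw [h]; group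
    obtain ⟨F, iF, iFt, hF, he'⟩ := Cfsg.Agent.S1230.result T hnc hnn helem
    obtain ⟨f, hf⟩ := IsPGroup.iff_card.1 T.2
    refine ⟨helem, F, iF, iFt, f, ?_, hF.trans hf, he'⟩
    rw [← hAT, hcardA] at hf
    by_contra hlt
    interval_cases f <;> omega
  -- otherwise the exceptional characters give a contradiction
  exfalso
  push Not at hsq
  obtain ⟨a, haA, haa⟩ := hsq
  have ha1 : a ≠ 1 := fun h => haa (by rw [h, one_mul])
  obtain ⟨r, hr⟩ : Nat.card Ω ∣ Nat.card A :=
    Subgroup.card_dvd_of_le fun x hx => ((hmemΩ x).1 hx).1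
  rw [← hXΩ, hX1] at hr
  have hr2 : 2 ≤ r := by
    by_contra hlt
    have hr0 : r ≠ 0 := fun h => by rw [h, mul_zero] at hr; exact Nat.card_pos.ne' hr
    have : Ω = A := Subgroup.eq_of_le_of_card_ge (fun x hx => ((hmemΩ x).1 hx).1) (by
      rw [← hXΩ, hX1, hr, show r = 1 by omega, mul_one])
    exact haa ((hmemΩ a).1 (this ▸ haA)).2
  have hre : e + 1 ≤ r := by
    have hd := CfsgLib.Char.index_subgroupOf_dvd_card_sub_one (A := A)
      (N := Subgroup.normalizer (A : Set G)) Subgroup.le_normalizer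
      (fun n hn x hx => (Subgroup.mem_normalizer_iff.1 hn x).1 hx) (fun x hx hx1 => (hC x hx hx1).le)
    rw [he, hr] at hd
    have hd' : e ∣ r - 1 := by
      have : (e + 1) * r - 1 = e * r + (r - 1) := by
        rw [add_mul, one_mul]; omega
      rw [this] at hd
      exact (Nat.dvd_add_right (dvd_mul_right _ _)).1 hd
    have := Nat.le_of_dvd (by omega) hd'
    omega
  have hcop : ∀ x : Subgroup.normalizer (A : Set G), x * x = 1 → (x : G) ∈ A := fun x hx => by
    have h1 : orderOf (QuotientGroup.mk' (A.subgroupOf (Subgroup.normalizer (A : Set G))) x) ∣ 2 :=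
      (orderOf_map_dvd _ x).trans (orderOf_dvd_of_pow_eq_one (by rw [pow_two, hx]))
    have h2 : orderOf (QuotientGroup.mk' (A.subgroupOf (Subgroup.normalizer (A : Set G))) x) ∣ e := by
      rw [← he, Subgroup.index_eq_card]; exact orderOf_dvd_natCard _
    rcases (Nat.dvd_prime Nat.prime_two).1 h1 with h | h
    · exact Subgroup.mem_subgroupOf.1 ((QuotientGroup.eq_one_iff _).1 (orderOf_eq_one_iff.1 h))
    · exact absurd (h ▸ h2) heodd
  -- the orbits of `A` on the cosets of the normaliser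
  obtain ⟨j, hj, hj1⟩ : ∃ j, (Subgroup.normalizer (A : Set G)).index = 1 + Nat.card A * j ∧ 1 ≤ j := by
    haveI : Fintype (Quotient (MulAction.orbitRel A (G ⧸ Subgroup.normalizer (A : Set G)))) :=
      Fintype.ofFinite _
    have hb := MulAction.sum_card_fixedBy_eq_card_orbits_mul_card_group A
      (G ⧸ Subgroup.normalizer (A : Set G))
    have hfix : ∀ x : A, x ≠ 1 →
        Fintype.card (MulAction.fixedBy (G ⧸ Subgroup.normalizer (A : Set G)) x) = 1 := by
      intro x hx
      rw [Fintype.card_eq_one_iff]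
      refine ⟨⟨((1 : G) : G ⧸ Subgroup.normalizer (A : Set G)), ?_⟩, fun y => ?_⟩
      · show (((x : G) * 1 : G) : G ⧸ Subgroup.normalizer (A : Set G)) = ((1 : G) : G ⧸ _)
        rw [QuotientGroup.eq, mul_one, mul_one]
        exact inv_mem (Subgroup.le_normalizer x.2)
      · obtain ⟨y, hy⟩ := y
        induction y using QuotientGroup.induction_on with
        | H g =>
          refine Subtype.ext ?_
          have hy' : (((x : G) * g : G) : G ⧸ Subgroup.normalizer (A : Set G)) = (g : G ⧸ _) := hy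
          rw [QuotientGroup.eq] at hy'
          have hn : g⁻¹ * (x : G) * g ∈ Subgroup.normalizer (A : Set G) := by
            have := inv_mem hy'
            simpa [mul_assoc] using this
          -- an element of the normaliser of order dividing `|A|` lies in `A`
          have hin : g⁻¹ * (x : G) * g ∈ A := by
            by_contra hout
            have := CfsgLib.Char.conj_not_mem_of_centralizer_le
              (fun k hk hk1 => (hC k hk hk1).le) hn hout g
            exact this (by simpa [mul_assoc] using x.2)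
          have hgN : g⁻¹ ∈ Subgroup.normalizer (A : Set G) := by
            by_contra hg
            exact hx (Subtype.ext (hTI g⁻¹ hg x x.2 (by rwa [inv_inv])))
          show (g : G ⧸ Subgroup.normalizer (A : Set G)) = ((1 : G) : G ⧸ _)
          rw [QuotientGroup.eq, mul_one]
          exact hgN
    have hone' : Fintype.card (MulAction.fixedBy (G ⧸ Subgroup.normalizer (A : Set G)) (1 : A)) =
        (Subgroup.normalizer (A : Set G)).index := by
      rw [Subgroup.index_eq_card, Nat.card_eq_fintype_card]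
      exact Fintype.card_congr (Equiv.subtypeUnivEquiv fun y => one_smul A y)
    rw [← Finset.add_sum_erase _ _ (Finset.mem_univ (1 : A)), hone',
      Finset.sum_congr rfl fun x hx => hfix x (Finset.mem_erase.1 hx).1, Finset.sum_const,
      Finset.card_erase_of_mem (Finset.mem_univ _), Finset.card_univ, smul_eq_mul, mul_one,
      ← Nat.card_eq_fintype_card (α := A)] at hb
    obtain ⟨m, hm⟩ : ∃ m, Fintype.card (Quotient (MulAction.orbitRel A
        (G ⧸ Subgroup.normalizer (A : Set G)))) = m + 1 := by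
      refine ⟨_, (Nat.sub_add_cancel ?_).symm⟩
      exact Fintype.card_pos_iff.2 ⟨Quotient.mk _ ((1 : G) : G ⧸ Subgroup.normalizer (A : Set G))⟩
    rw [hm, add_mul, one_mul, mul_comm m] at hb
    have hA0 : 0 < Nat.card A := Nat.card_pos
    refine ⟨m, by omega, Nat.one_le_iff_ne_zero.2 fun h0 => hNtop (Subgroup.index_eq_one.1 ?_)⟩
    rw [h0, mul_zero] at hb
    omega
  -- pairs of involutions
  have hcountX : ((X.erase 1).erase z).card = e - 1 := by
    rw [Finset.card_erase_of_mem (Finset.mem_erase.2 ⟨hz1, (hmemX z).2 ⟨hzA, hzz⟩⟩),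
      Finset.card_erase_of_mem ((hmemX 1).2 ⟨A.one_mem, one_mul 1⟩), hX1]
    omega
  have hmemY : ∀ u : G, u ∈ (X.erase 1).erase z ↔ u ≠ z ∧ u ≠ 1 ∧ u ∈ A ∧ u * u = 1 := fun u => by
    simp [hmemX]
  have huv : ∀ u : G, u ∈ (X.erase 1).erase z → (u * z) * (u * z) = 1 ∧ u * z ≠ 1 ∧ u * z ∈ A ∧
      u * (u * z) = z := fun u hu => by
    obtain ⟨huz, -, huA, huu⟩ := (hmemY u).1 hu
    refine ⟨?_, fun h => huz ?_, A.mul_mem huA hzA, by rw [← mul_assoc, huu, one_mul]⟩
    · rw [mul_assoc, ← mul_assoc z u, hab z hzA u huA, mul_assoc u z, hzz, mul_one, huu]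
    · rw [eq_inv_of_mul_eq_one_left h, inv_eq_of_mul_eq_one_right hzz]
  have hpair : ∀ u v : G, u * u = 1 → u ≠ 1 → v * v = 1 → v ≠ 1 → u * v = z →
      u ∈ (X.erase 1).erase z ∧ u * z = v := fun u v hu hu1 hv hv1 huvz => by
    have hv' : v = u * z := by rw [← huvz, ← mul_assoc, hu, one_mul]
    refine ⟨(hmemY u).2 ⟨fun h => hv1 ?_, hu1, ?_, hu⟩, hv'.symm⟩
    · rw [hv', h, hzz]
    · rw [hAdef, Subgroup.mem_centralizer_singleton_iff]
      rw [hv'] at hv
      calc u * z = (u * z * (u * z)) * (z⁻¹ * u⁻¹) := by group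
        _ = z * u := by rw [hv, one_mul, inv_eq_of_mul_eq_one_right hzz,
          inv_eq_of_mul_eq_one_right hu]
  have hnone : ∀ u v : G, u * u = 1 → v * v = 1 → u * v ≠ a := fun u v hu hv h => by
    have hinv : u * a * u⁻¹ = a⁻¹ := by
      rw [← h, mul_inv_rev, inv_eq_of_mul_eq_one_right hu, inv_eq_of_mul_eq_one_right hv,
        ← mul_assoc u u, hu, one_mul]
    have huN : u ∈ Subgroup.normalizer (A : Set G) := by
      by_contra hN'
      exact ha1 (hTI u hN' a haA (hinv ▸ A.inv_mem haA))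
    have huA := hcop ⟨u, huN⟩ (Subtype.ext hu)
    rw [hab u huA a haA, mul_inv_cancel_right] at hinv
    exact haa (mul_eq_one_iff_eq_inv.2 hinv)
  obtain ⟨aN, haN⟩ : ∃ x : Subgroup.normalizer (A : Set G), x = ⟨a, Subgroup.le_normalizer haA⟩ :=
    ⟨_, rfl⟩
  have haNv : (aN : G) = a := by rw [haN]
  refine no_room (r := r) hTI hC he he2 (by rw [hr, mul_comm]) hre hj hj1
    (z := zN) (a := aN) (by rw [hzNv]; exact hzA) (by rw [haNv]; exact haA)
    (fun h => hz1 (by rw [← hzNv, h, Subgroup.coe_one]))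
    (fun h => ha1 (by rw [← haNv, h, Subgroup.coe_one])) (Subtype.ext (by simp [hzNv, hzz]))
    (fun h => haa (by have := ((hiscN aN).1 h).2.1; rwa [haNv] at this)) ?_ ?_ ?_ ?_
  · rw [hzNv, ← hcountX, ← Nat.card_eq_finsetCard]
    exact Nat.card_congr
      { toFun := fun p => ⟨p.1.1, (hpair _ _ ((hisc _).1 p.2.1).1 ((hisc _).1 p.2.1).2
          ((hisc _).1 p.2.2.1).1 ((hisc _).1 p.2.2.1).2 p.2.2.2).1⟩
        invFun := fun u => ⟨((u : G), (u : G) * z),
          (hisc _).2 ⟨((hmemY u).1 u.2).2.2.2, ((hmemY u).1 u.2).2.1⟩,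
          (hisc _).2 ⟨(huv u u.2).1, (huv u u.2).2.1⟩, (huv u u.2).2.2.2⟩
        left_inv := fun p => Subtype.ext (Prod.ext rfl (hpair _ _ ((hisc _).1 p.2.1).1
          ((hisc _).1 p.2.1).2 ((hisc _).1 p.2.2.1).1 ((hisc _).1 p.2.2.1).2 p.2.2.2).2)
        right_inv := fun u => rfl }
  · rw [hzNv, haNv]
    haveI : IsEmpty {p : G × G // IsConj z p.1 ∧ IsConj z p.2 ∧ p.1 * p.2 = a} :=
      ⟨fun p => hnone _ _ ((hisc _).1 p.2.1).1 ((hisc _).1 p.2.2.1).1 p.2.2.2⟩
    exact Nat.card_of_isEmpty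
  · rw [← hcountX, ← Nat.card_eq_finsetCard]
    refine Nat.card_congr
      { toFun := fun p => ⟨((p.1.1 : Subgroup.normalizer (A : Set G)) : G),
          (hpair _ (p.1.2 : G) ((hiscN _).1 p.2.1).2.1 ((hiscN _).1 p.2.1).2.2
            ((hiscN _).1 p.2.2.1).2.1 ((hiscN _).1 p.2.2.1).2.2
            (by rw [← Subgroup.coe_mul, p.2.2.2, hzNv])).1⟩
        invFun := fun u => ⟨(⟨(u : G), Subgroup.le_normalizer ((hmemY u).1 u.2).2.2.1⟩,
            ⟨(u : G) * z, Subgroup.le_normalizer (huv u u.2).2.2.1⟩),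
          (hiscN _).2 ⟨((hmemY u).1 u.2).2.2.1, ((hmemY u).1 u.2).2.2.2, ((hmemY u).1 u.2).2.1⟩,
          (hiscN _).2 ⟨(huv u u.2).2.2.1, (huv u u.2).1, (huv u u.2).2.1⟩,
          Subtype.ext (by simp [hzNv, (huv u u.2).2.2.2])⟩
        left_inv := fun p => Subtype.ext (Prod.ext rfl (Subtype.ext (hpair _ (p.1.2 : G)
          ((hiscN _).1 p.2.1).2.1 ((hiscN _).1 p.2.1).2.2 ((hiscN _).1 p.2.2.1).2.1
          ((hiscN _).1 p.2.2.1).2.2 (by rw [← Subgroup.coe_mul, p.2.2.2, hzNv])).2))
        right_inv := fun u => rfl }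
  · haveI : IsEmpty {p : Subgroup.normalizer (A : Set G) × Subgroup.normalizer (A : Set G) //
        IsConj zN p.1 ∧ IsConj zN p.2 ∧ p.1 * p.2 = aN} :=
      ⟨fun p => hnone _ _ ((hiscN _).1 p.2.1).2.1 ((hiscN _).1 p.2.2.1).2.1
        (by rw [← Subgroup.coe_mul, p.2.2.2, haNv])⟩
    exact Nat.card_of_isEmpty

theorem psl_two_even_of_transitive [IsSimpleGroup G] (hG : ¬ IsMulCommutative G)
    (hCT : ∀ a b c : G, a ≠ 1 → b ≠ 1 → c ≠ 1 → Commute a b → Commute b c → Commute a c) :
    ∃ (F : Type) (_ : Field F) (_ : Fintype F) (f : ℕ), 2 ≤ f ∧ Fintype.card F = 2 ^ f ∧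
      Nonempty (G ≃* Matrix.ProjectiveSpecialLinearGroup (Fin 2) F) := by
  have hCA : ∀ x : G, x ≠ 1 → ∀ a ∈ Subgroup.centralizer ({x} : Set G),
      ∀ b ∈ Subgroup.centralizer ({x} : Set G), a * b = b * a := by
    intro x hx a ha b hb
    rw [Subgroup.mem_centralizer_singleton_iff] at ha hb
    by_cases ha1 : a = 1
    · simp [ha1]
    by_cases hb1 : b = 1
    · simp [hb1]
    exact hCT a x b ha1 hx hb1 ha (Commute.symm hb)
  refine (psl_two_even_of_invCA hG ?_ fun x _ hx => ⟨hCA x hx, fun y hy hy1 => ?_⟩).2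
  · -- the order is even
    by_contra h
    have hodd : Odd (Nat.card G) := Nat.odd_iff.2 (Nat.two_dvd_ne_zero.1 h)
    haveI := Cfsg.Agent.S0182.result hodd hCA
    exact hG ⟨⟨IsSimpleGroup.comm_iff_isSolvable.2 this⟩⟩
  · ext w
    simp only [Subgroup.mem_centralizer_singleton_iff] at hy ⊢
    constructor <;> intro hw
    · exact hCA y hy1 w (Subgroup.mem_centralizer_singleton_iff.2 hw) x
        (Subgroup.mem_centralizer_singleton_iff.2 hy.symm)
    · exact hCA x hx w (Subgroup.mem_centralizer_singleton_iff.2 hw) y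
        (Subgroup.mem_centralizer_singleton_iff.2 hy)

end CfsgLib.CTGroup
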